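/-
One tensor factor F^2 or F^4 in characteristic 2: commuting pairs of square-zero self-adjoint matrices a, b with
a b + b a = 1, whose span together with 1 is invariant under the similitudes of the symplectic form.
-/
import Mathlib
import Cfsg.Prelude.Def_GeometricClasses

set_option autoImplicit false

namespace Cfsg.Agent.TensorOver

open Matrix Function

variable {F : Type*} [Field F] {k : ℕ}

/-- The local generators. -/
structure Loc (f₁ : (Fin k → F) → (Fin k → F) → F) (r : ℕ) where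
  a : Fin r → Matrix (Fin k) (Fin k) F
  b : Fin r → Matrix (Fin k) (Fin k) F
  aa : ∀ s, a s * a s = 0
  bb : ∀ s, b s * b s = 0
  ab : ∀ s, a s * b s + b s * a s = 1
  caa : ∀ s s', s ≠ s' → Commute (a s) (a s')
  cab : ∀ s s', s ≠ s' → Commute (a s) (b s')
  cbb : ∀ s s', s ≠ s' → Commute (b s) (b s')
  saA : ∀ s u v, f₁ (a s *ᵥ u) v = f₁ u (a s *ᵥ v)
  saB : ∀ s u v, f₁ (b s *ᵥ u) v = f₁ u (b s *ᵥ v)
  altA : k ≠ 2 → ∀ s u, f₁ u (a s *ᵥ u) = 0
  altB : k ≠ 2 → ∀ s u, f₁ u (b s *ᵥ u) = 0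
  inv : ∀ (g : GL (Fin k) F) (μ : F), μ ≠ 0 →
    (∀ u v, f₁ ((g : Matrix (Fin k) (Fin k) F) *ᵥ u) ((g : Matrix (Fin k) (Fin k) F) *ᵥ v) = μ * f₁ u v) →
    ∀ T ∈ insert 1 (Set.range a ∪ Set.range b),
      (g : Matrix (Fin k) (Fin k) F) * T * ((g⁻¹ : GL (Fin k) F) : Matrix (Fin k) (Fin k) F) ∈
        Submodule.span F (insert 1 (Set.range a ∪ Set.range b))

lemma form_expand {f : (Fin k → F) → (Fin k → F) → F} (hf : Geo.IsBilinearForm f) (u v : Fin k → F) :
    f u v = ∑ a, ∑ b, u a * Geo.gramMatrix f a b * v b := by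
  let L : (Fin k → F) →ₗ[F] (Fin k → F) →ₗ[F] F :=
    LinearMap.mk₂ F f hf.add_left (fun c x w => hf.smul_left c x w) (fun x y w => hf.add_right x y w)
      (fun c x w => hf.smul_right c x w)
  have h : ∀ u v, f u v = L u v := fun _ _ => rfl
  have hu : ∀ w : Fin k → F, w = ∑ a, w a • (Pi.single a (1 : F) : Fin k → F) := fun w => by
    funext i
    simp [Pi.single_apply]
  rw [h]
  conv_lhs => rw [hu u, hu v]
  simp only [map_sum, map_smul, LinearMap.coe_sum, Finset.sum_apply, LinearMap.smul_apply, smul_eq_mul,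
    Finset.mul_sum]
  rw [Finset.sum_comm]
  refine Finset.sum_congr rfl fun a _ => Finset.sum_congr rfl fun b _ => ?_
  show _ = u a * L (Pi.single a 1) (Pi.single b 1) * v b
  ring

variable [CharP F 2]

lemma trace_one_two : Matrix.trace (1 : Matrix (Fin 2) (Fin 2) F) = 0 := by
  rw [Matrix.trace_one, Fintype.card_fin]
  exact_mod_cast CharP.cast_eq_zero F 2

/-- The local data in dimension 2. -/
def locTwo {f₁ : (Fin 2 → F) → (Fin 2 → F) → F} (hf : Geo.IsSymplecticForm f₁) : Loc f₁ 1 where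
  a := fun _ => !![0, 1; 0, 0]
  b := fun _ => !![0, 0; 1, 0]
  aa := fun _ => by ext i j; fin_cases i <;> fin_cases j <;> simp
  bb := fun _ => by ext i j; fin_cases i <;> fin_cases j <;> simp
  ab := fun _ => by ext i j; fin_cases i <;> fin_cases j <;> simp
  caa := fun s s' h => absurd (Subsingleton.elim s s') h
  cab := fun s s' h => absurd (Subsingleton.elim s s') h
  cbb := fun s s' h => absurd (Subsingleton.elim s s') h
  saA := fun _ u v => by
    rw [form_expand hf.bilinear, form_expand hf.bilinear]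
    have h0 : Geo.gramMatrix f₁ 0 0 = 0 := hf.alternating _
    have h1 : Geo.gramMatrix f₁ 1 1 = 0 := hf.alternating _
    have h2 : Geo.gramMatrix f₁ 1 0 = Geo.gramMatrix f₁ 0 1 := by
      show f₁ _ _ = f₁ _ _
      rw [hf.skew, CharTwo.neg_eq]
    simp [Fin.sum_univ_two, h0, h1, h2, Matrix.mulVec, dotProduct]
  saB := fun _ u v => by
    rw [form_expand hf.bilinear, form_expand hf.bilinear]
    have h0 : Geo.gramMatrix f₁ 0 0 = 0 := hf.alternating _
    have h1 : Geo.gramMatrix f₁ 1 1 = 0 := hf.alternating _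
    have h2 : Geo.gramMatrix f₁ 1 0 = Geo.gramMatrix f₁ 0 1 := by
      show f₁ _ _ = f₁ _ _
      rw [hf.skew, CharTwo.neg_eq]
    simp [Fin.sum_univ_two, h0, h1, h2, Matrix.mulVec, dotProduct]
  altA := fun h => absurd rfl h
  altB := fun h => absurd rfl h
  inv := fun g μ _ _ T hT => by
    have htr : Matrix.trace T = 0 := by
      rcases hT with rfl | ⟨s, rfl⟩ | ⟨s, rfl⟩
      · exact trace_one_two
      · simp [Matrix.trace_fin_two]
      · simp [Matrix.trace_fin_two]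
    set U := (g : Matrix (Fin 2) (Fin 2) F) * T * ((g⁻¹ : GL (Fin 2) F) : Matrix (Fin 2) (Fin 2) F)
    have hU : U 0 0 + U 1 1 = 0 := by
      rw [← Matrix.trace_fin_two, Matrix.trace_units_conj, htr]
    have hU' : U 1 1 = U 0 0 := (CharTwo.add_eq_zero.1 hU).symm
    have e : U = U 0 0 • 1 + U 0 1 • !![0, 1; 0, 0] + U 1 0 • !![(0:F), 0; 1, 0] := by
      ext i j
      fin_cases i <;> fin_cases j <;> simp [hU']
    rw [e]
    refine add_mem (add_mem ?_ ?_) ?_ <;> refine Submodule.smul_mem _ _ (Submodule.subset_span ?_)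
    · exact Set.mem_insert _ _
    · exact Or.inr (Or.inl ⟨0, rfl⟩)
    · exact Or.inr (Or.inr ⟨0, rfl⟩)

/-! ### Dimension 4 -/

/-- The hyperbolic alternating form on F^4. -/
def std4 (u v : Fin 4 → F) : F := u 0 * v 3 + u 3 * v 0 + u 1 * v 2 + u 2 * v 1

def sa0 (F : Type*) [Field F] : Fin 2 → Matrix (Fin 4) (Fin 4) F :=
  ![!![0, 0, 1, 0; 0, 0, 0, 1; 0, 0, 0, 0; 0, 0, 0, 0], !![0, 1, 0, 0; 0, 0, 0, 0; 0, 0, 0, 1; 0, 0, 0, 0]]

def sb0 (F : Type*) [Field F] : Fin 2 → Matrix (Fin 4) (Fin 4) F :=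
  ![!![0, 0, 0, 0; 0, 0, 0, 0; 1, 0, 0, 0; 0, 1, 0, 0], !![0, 0, 0, 0; 1, 0, 0, 0; 0, 0, 0, 0; 0, 0, 1, 0]]

omit [CharP F 2] in
lemma std4_aa (s : Fin 2) : sa0 F s * sa0 F s = 0 ∧ sb0 F s * sb0 F s = 0 ∧
    sa0 F s * sb0 F s + sb0 F s * sa0 F s = 1 := by
  fin_cases s <;> refine ⟨?_, ?_, ?_⟩ <;> ext i j <;> fin_cases i <;> fin_cases j <;>
    simp [sa0, sb0, Matrix.mul_apply, Fin.sum_univ_four]

omit [CharP F 2] in
lemma std4_comm (s s' : Fin 2) (h : s ≠ s') :
    Commute (sa0 F s) (sa0 F s') ∧ Commute (sa0 F s) (sb0 F s') ∧ Commute (sb0 F s) (sb0 F s') := by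
  fin_cases s <;> fin_cases s' <;> first
    | exact absurd rfl h
    | (refine ⟨?_, ?_, ?_⟩ <;> show _ * _ = _ * _ <;> ext i j <;> fin_cases i <;> fin_cases j <;>
        simp [sa0, sb0, Matrix.mul_apply, Fin.sum_univ_four])

lemma std4_alt (s : Fin 2) (u : Fin 4 → F) : std4 u (sa0 F s *ᵥ u) = 0 ∧ std4 u (sb0 F s *ᵥ u) = 0 := by
  have h : ∀ x : F, x + x = 0 := CharTwo.add_self_eq_zero
  fin_cases s <;> refine ⟨?_, ?_⟩ <;>
    simp [std4, sa0, sb0, Matrix.mulVec, dotProduct, Fin.sum_univ_four] <;>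
    first
      | linear_combination h (u 3 * u 2)
      | linear_combination h (u 0 * u 1)
      | linear_combination h (u 3 * u 1)
      | linear_combination h (u 0 * u 2)

/-- An alternating self-adjoint matrix with scalar square lies in the span of 1, a, b. -/
lemma std4_span {T : Matrix (Fin 4) (Fin 4) F} (halt : ∀ u, std4 u (T *ᵥ u) = 0) (c : F)
    (hsq : T * T = c • 1) :
    T ∈ Submodule.span F (insert 1 (Set.range (sa0 F) ∪ Set.range (sb0 F))) := by
  have hd : ∀ i, std4 (Pi.single i (1 : F)) (T *ᵥ Pi.single i 1) = 0 := fun i => halt _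
  have hp : ∀ i j, std4 (Pi.single i (1 : F) + Pi.single j 1) (T *ᵥ (Pi.single i 1 + Pi.single j 1)) = 0 :=
    fun i j => halt _
  have d0 := hd 0
  have d1 := hd 1
  have d2 := hd 2
  have d3 := hd 3
  have p01 := hp 0 1
  have p02 := hp 0 2
  have p03 := hp 0 3
  have p12 := hp 1 2
  have p13 := hp 1 3
  have p23 := hp 2 3
  simp [std4, Matrix.mulVec, dotProduct, Fin.sum_univ_four] at d0 d1 d2 d3 p01 p02 p03 p12 p13 p23
  simp only [d0, d1, d2, d3, add_zero, zero_add] at p01 p02 p03 p12 p13 p23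
  rw [CharTwo.add_eq_zero] at p01 p02 p03 p12 p13 p23
  have q0 : (T * T) 0 0 = c := by rw [hsq]; simp
  have q1 : (T * T) 1 1 = c := by rw [hsq]; simp
  simp only [Matrix.mul_apply, Fin.sum_univ_four, d0, d1, d2, d3, mul_zero, zero_mul, add_zero, zero_add] at q0 q1
  have hh : (T 0 0 + T 1 1) * (T 0 0 + T 1 1) = 0 := by
    rw [p01, ← p23] at q1
    linear_combination q0 + q1 + CharTwo.add_self_eq_zero c + CharTwo.add_self_eq_zero (T 0 0 * T 1 1)
      - CharTwo.add_self_eq_zero (T 0 1 * T 1 0) - CharTwo.add_self_eq_zero (T 0 2 * T 2 0)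
  have h11 : T 1 1 = T 0 0 := (CharTwo.add_eq_zero.1 (mul_self_eq_zero.1 hh)).symm
  have e : T = T 0 0 • 1 + T 0 2 • sa0 F 0 + T 0 1 • sa0 F 1 + T 2 0 • sb0 F 0 + T 1 0 • sb0 F 1 := by
    ext i j
    fin_cases i <;> fin_cases j <;> simp [sa0, sb0, d0, d1, d2, d3, h11, p01, p02, p03, p12, ← p13, ← p23]
  rw [e]
  refine add_mem (add_mem (add_mem (add_mem ?_ ?_) ?_) ?_) ?_ <;>
    refine Submodule.smul_mem _ _ (Submodule.subset_span ?_)
  · exact Set.mem_insert _ _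
  · exact Or.inr (Or.inl ⟨0, rfl⟩)
  · exact Or.inr (Or.inl ⟨1, rfl⟩)
  · exact Or.inr (Or.inr ⟨0, rfl⟩)
  · exact Or.inr (Or.inr ⟨1, rfl⟩)

lemma exists_hyp_basis {f₁ : (Fin 4 → F) → (Fin 4 → F) → F} (hf : Geo.IsSymplecticForm f₁) :
    ∃ B : GL (Fin 4) F, ∀ u v, f₁ ((B : Matrix (Fin 4) (Fin 4) F) *ᵥ u) ((B : Matrix (Fin 4) (Fin 4) F) *ᵥ v) =
      std4 u v := by
  have hb := hf.bilinear
  have hs : ∀ x y, f₁ x y = f₁ y x := fun x y => by rw [hf.skew, CharTwo.neg_eq]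
  let e0 : Fin 4 → F := Pi.single 0 1
  have he0 : e0 ≠ 0 := by simp [e0]
  obtain ⟨w0, hw0⟩ := (hf.nondegenerate e0 he0).2
  let e3 : Fin 4 → F := (f₁ e0 w0)⁻¹ • w0
  have h03 : f₁ e0 e3 = 1 := by rw [hb.smul_right, inv_mul_cancel₀ hw0]
  let ψ : (Fin 4 → F) →ₗ[F] F × F :=
    { toFun := fun v => (f₁ e0 v, f₁ e3 v)
      map_add' := fun x y => by simp [hb.add_right]
      map_smul' := fun c x => by simp [hb.smul_right] }
  have hker : LinearMap.ker ψ ≠ ⊥ := LinearMap.ker_ne_bot_of_finrank_lt (by simp)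
  obtain ⟨e1, he1, he10⟩ := (Submodule.ne_bot_iff _).1 hker
  have h01 : f₁ e0 e1 = 0 := congrArg Prod.fst he1
  have h31 : f₁ e3 e1 = 0 := congrArg Prod.snd he1
  obtain ⟨w1, hw1⟩ := (hf.nondegenerate e1 he10).2
  let w := (f₁ e1 w1)⁻¹ • w1
  have hw : f₁ e1 w = 1 := by rw [hb.smul_right, inv_mul_cancel₀ hw1]
  let e2 := w + (f₁ e3 w • e0 + f₁ e0 w • e3)
  have h02 : f₁ e0 e2 = 0 := by
    simp only [e2, hb.add_right, hb.smul_right, hf.alternating, h03, mul_zero, zero_add, mul_one,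
      CharTwo.add_self_eq_zero]
  have h32 : f₁ e3 e2 = 0 := by
    simp only [e2, hb.add_right, hb.smul_right, hf.alternating, hs e3 e0, h03, mul_zero, add_zero, mul_one,
      CharTwo.add_self_eq_zero]
  have h12 : f₁ e1 e2 = 1 := by
    simp only [e2, hb.add_right, hb.smul_right, hs e1 e0, hs e1 e3, h01, h31, hw, mul_zero, add_zero]
  let M : Matrix (Fin 4) (Fin 4) F := Matrix.of fun i j => ![e0, e1, e2, e3] j i
  have hM : ∀ u, M *ᵥ u = u 0 • e0 + u 1 • e1 + u 2 • e2 + u 3 • e3 := fun u => by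
    funext i
    simp [M, Matrix.mulVec, dotProduct, Fin.sum_univ_four, mul_comm]
  have hform : ∀ u v, f₁ (M *ᵥ u) (M *ᵥ v) = std4 u v := fun u v => by
    rw [hM, hM]
    simp only [hb.add_left, hb.smul_left, hb.add_right, hb.smul_right, hf.alternating, h01, h02, h03, h12,
      hs e1 e0, hs e2 e0, hs e3 e0, hs e2 e1, hs e1 e3, hs e2 e3, h31, h32, std4]
    ring
  have hinj : Function.Injective M.mulVec := by
    intro u v huv
    have key : ∀ z, std4 u z = std4 v z := fun z => by rw [← hform, ← hform, huv]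
    funext i
    fin_cases i
    · simpa [std4] using key (Pi.single 3 1)
    · simpa [std4] using key (Pi.single 2 1)
    · simpa [std4] using key (Pi.single 1 1)
    · simpa [std4] using key (Pi.single 0 1)
  refine ⟨(Matrix.mulVec_injective_iff_isUnit.1 hinj).unit, fun u v => ?_⟩
  exact hform u v

/-- The local data in dimension 4. -/
lemma exists_locFour {f₁ : (Fin 4 → F) → (Fin 4 → F) → F} (hf : Geo.IsSymplecticForm f₁) :
    Nonempty (Loc f₁ 2) := by
  obtain ⟨B, hB⟩ := exists_hyp_basis hf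
  set Bi : Matrix (Fin 4) (Fin 4) F := ((B⁻¹ : GL (Fin 4) F) : Matrix (Fin 4) (Fin 4) F) with hBi
  set Bm : Matrix (Fin 4) (Fin 4) F := (B : Matrix (Fin 4) (Fin 4) F) with hBm
  have h1 : Bi * Bm = 1 := B.inv_mul
  have h2 : Bm * Bi = 1 := B.mul_inv
  let C : Matrix (Fin 4) (Fin 4) F → Matrix (Fin 4) (Fin 4) F := fun X => Bm * X * Bi
  have Cmul : ∀ X Y, C X * C Y = C (X * Y) := fun X Y => by
    show Bm * X * Bi * (Bm * Y * Bi) = Bm * (X * Y) * Bi
    rw [show Bm * X * Bi * (Bm * Y * Bi) = Bm * X * (Bi * Bm) * Y * Bi by noncomm_ring, h1]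
    noncomm_ring
  have Ccomm : ∀ X Y, Commute X Y → Commute (C X) (C Y) := fun X Y h => by
    show C X * C Y = C Y * C X
    rw [Cmul, Cmul, h.eq]
  have Calt : ∀ X, (∀ u, std4 u (X *ᵥ u) = 0) → ∀ u, f₁ u (C X *ᵥ u) = 0 := fun X hX u => by
    have e1 : Bm *ᵥ (Bi *ᵥ u) = u := by rw [mulVec_mulVec, h2, one_mulVec]
    have e2 : C X *ᵥ u = Bm *ᵥ (X *ᵥ (Bi *ᵥ u)) := by simp only [C, mulVec_mulVec, mul_assoc]
    rw [e2]
    nth_rw 1 [← e1]
    rw [hB]
    exact hX _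
  have altSA : ∀ X, (∀ u, f₁ u (X *ᵥ u) = 0) → ∀ u v, f₁ (X *ᵥ u) v = f₁ u (X *ᵥ v) := fun X hX u v => by
    have h := hX (u + v)
    rw [mulVec_add, hf.bilinear.add_left, hf.bilinear.add_right, hf.bilinear.add_right, hX, hX, zero_add,
      add_zero, CharTwo.add_eq_zero] at h
    rw [hf.skew (X *ᵥ u), CharTwo.neg_eq, h]
  have haA : ∀ s u, f₁ u (C (sa0 F s) *ᵥ u) = 0 := fun s => Calt _ fun u => (std4_alt s u).1
  have haB : ∀ s u, f₁ u (C (sb0 F s) *ᵥ u) = 0 := fun s => Calt _ fun u => (std4_alt s u).2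
  have C0 : C 0 = 0 := by simp [C]
  have C1 : C 1 = 1 := by simp [C, h2]
  refine ⟨{
    a := fun s => C (sa0 F s)
    b := fun s => C (sb0 F s)
    aa := fun s => by rw [Cmul, (std4_aa s).1, C0]
    bb := fun s => by rw [Cmul, (std4_aa s).2.1, C0]
    ab := fun s => by
      rw [Cmul, Cmul, ← C1, ← (std4_aa (F := F) s).2.2]
      simp only [C, mul_add, add_mul]
    caa := fun s s' h => Ccomm _ _ (std4_comm s s' h).1
    cab := fun s s' h => Ccomm _ _ (std4_comm s s' h).2.1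
    cbb := fun s s' h => Ccomm _ _ (std4_comm s s' h).2.2
    saA := fun s => altSA _ (haA s)
    saB := fun s => altSA _ (haB s)
    altA := fun _ => haA
    altB := fun _ => haB
    inv := ?_ }⟩
  intro g μ _ hg T hT
  set gi : Matrix (Fin 4) (Fin 4) F := ((g⁻¹ : GL (Fin 4) F) : Matrix (Fin 4) (Fin 4) F) with hgi
  set gm : Matrix (Fin 4) (Fin 4) F := (g : Matrix (Fin 4) (Fin 4) F) with hgm
  have g1 : gi * gm = 1 := g.inv_mul
  have g2 : gm * gi = 1 := g.mul_inv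
  obtain ⟨hTalt, c, hTsq⟩ : (∀ u, f₁ u (T *ᵥ u) = 0) ∧ ∃ c : F, T * T = c • 1 := by
    rcases hT with rfl | ⟨s, rfl⟩ | ⟨s, rfl⟩
    · exact ⟨fun u => by rw [one_mulVec, hf.alternating], 1, by simp⟩
    · exact ⟨haA s, 0, by rw [Cmul, (std4_aa s).1, C0, zero_smul]⟩
    · exact ⟨haB s, 0, by rw [Cmul, (std4_aa s).2.1, C0, zero_smul]⟩
  set T' : Matrix (Fin 4) (Fin 4) F := Bi * (gm * T * gi) * Bm with hT'
  have hCT : C T' = gm * T * gi := by
    show Bm * (Bi * (gm * T * gi) * Bm) * Bi = _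
    rw [show Bm * (Bi * (gm * T * gi) * Bm) * Bi = (Bm * Bi) * (gm * T * gi) * (Bm * Bi) by noncomm_ring, h2,
      one_mul, mul_one]
  have halt' : ∀ u, std4 u (T' *ᵥ u) = 0 := fun u => by
    rw [← hB u, mulVec_mulVec]
    have e : Bm * T' = gm * T * (gi * Bm) := by
      rw [hT', show Bm * (Bi * (gm * T * gi) * Bm) = (Bm * Bi) * (gm * T * (gi * Bm)) by noncomm_ring, h2,
        one_mul]
    have e' : Bm *ᵥ u = gm *ᵥ ((gi * Bm) *ᵥ u) := by rw [mulVec_mulVec, ← mul_assoc, g2, one_mul]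
    rw [e, ← mulVec_mulVec u (gm * T), ← mulVec_mulVec _ gm T, e', hg, hTalt, mul_zero]
  have hsq' : T' * T' = c • 1 := by
    calc T' * T' = Bi * (gm * T * (gi * (Bm * Bi) * gm) * T * gi) * Bm := by rw [hT']; noncomm_ring
      _ = Bi * (gm * (T * T) * gi) * Bm := by rw [h2, mul_one, g1]; noncomm_ring
      _ = c • 1 := by rw [hTsq, Matrix.mul_smul, Matrix.smul_mul, mul_one, g2, Matrix.mul_smul, Matrix.smul_mul,
        mul_one, h1]
  have hmem := std4_span halt' c hsq'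
  rw [← hCT]
  let L : Matrix (Fin 4) (Fin 4) F →ₗ[F] Matrix (Fin 4) (Fin 4) F :=
    (LinearMap.mulRight F Bi).comp (LinearMap.mulLeft F Bm)
  have hle : Submodule.span F (insert 1 (Set.range (sa0 F) ∪ Set.range (sb0 F))) ≤
      (Submodule.span F (insert 1 (Set.range (fun s => C (sa0 F s)) ∪ Set.range fun s => C (sb0 F s)))).comap L := by
    refine Submodule.span_le.2 ?_
    rintro X (rfl | ⟨s, rfl⟩ | ⟨s, rfl⟩)
    · exact Submodule.subset_span (Or.inl C1)
    · exact Submodule.subset_span (Or.inr (Or.inl ⟨s, rfl⟩))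
    · exact Submodule.subset_span (Or.inr (Or.inr ⟨s, rfl⟩))
  exact hle hmem

end Cfsg.Agent.TensorOver
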