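/-
Operators acting on one factor of a tensor power F^k ⊗ ... ⊗ F^k, written on coordinate vectors indexed by
functions Fin t → Fin k, and the algebra of commuting square-zero pairs.
-/
import Mathlib

set_option autoImplicit false

namespace Cfsg.Agent.TensorOver

open Matrix Function

section ring

variable {R : Type*} [Ring R]

lemma mul_self_zero_of_comm {x y : R} (hxy : Commute x y) (hx : x * x = 0) : x * y * (x * y) = 0 := by
  calc x * y * (x * y) = x * (y * x) * y := by noncomm_ring
    _ = x * x * (y * y) := by rw [← hxy.eq]; noncomm_ring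
    _ = 0 := by rw [hx, zero_mul]

lemma sandwich_zero {x y : R} (hxy : Commute x y) (hx : x * x = 0) : x * y * x = 0 := by
  rw [mul_assoc, ← hxy.eq, ← mul_assoc, hx, zero_mul]

lemma invol_one_add (h2 : ∀ x : R, x + x = 0) {X : R} (hX : X * X = 0) : (1 + X) * (1 + X) = 1 := by
  calc (1 + X) * (1 + X) = 1 + (X + X) + X * X := by noncomm_ring
    _ = 1 := by rw [h2, hX, add_zero, add_zero]

lemma commutator_invol (h2 : ∀ x : R, x + x = 0) {X Y : R} (hX : X * X = 0) (hY : Y * Y = 0)
    (hXYX : X * Y * X = 0) (hYXY : Y * X * Y = 0) :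
    (1 + X) * (1 + Y) * ((1 + X) * (1 + Y)) = 1 + (X * Y + Y * X) := by
  calc (1 + X) * (1 + Y) * ((1 + X) * (1 + Y))
      = 1 + (X * Y + Y * X) + ((X + X) + (Y + Y) + (X * Y + X * Y)) + X * X + Y * Y + (X * X) * Y
        + X * Y * X + Y * X * Y + X * (Y * Y) + (X * Y * X) * Y := by noncomm_ring
    _ = _ := by simp [h2, hX, hY, hXYX, hYXY]

/-- The commutator of 1 + C b and 1 + a d is 1 + C d. -/
lemma commutator_car (h2 : ∀ x : R, x + x = 0) {a b C d : R} (hab : a * b + b * a = 1)
    (hCa : Commute C a) (hCb : Commute C b) (hCd : Commute C d) (hda : Commute d a) (hdb : Commute d b)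
    (hC : C * C = 0) (hd : d * d = 0) :
    (1 + C * b) * (1 + a * d) * ((1 + C * b) * (1 + a * d)) = 1 + C * d := by
  have hdC : Commute d C := hCd.symm
  rw [commutator_invol h2 (mul_self_zero_of_comm hCb hC)
    (by rw [← hda.eq]; exact mul_self_zero_of_comm hda hd)]
  · congr 1
    have e1 : C * b * (a * d) = C * (b * a) * d := by noncomm_ring
    have e2 : a * d * (C * b) = C * (a * b) * d := by
      calc a * d * (C * b) = a * (d * C) * b := by noncomm_ring
        _ = a * C * (d * b) := by rw [hdC.eq]; noncomm_ring
        _ = C * a * (b * d) := by rw [← hCa.eq, hdb.eq]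
        _ = C * (a * b) * d := by noncomm_ring
    rw [e1, e2, ← add_mul, ← mul_add, add_comm (b * a), hab, mul_one]
  · calc C * b * (a * d) * (C * b) = (C * (b * a * d) * C) * b := by noncomm_ring
      _ = 0 := by rw [sandwich_zero ((hCb.mul_right hCa).mul_right hCd) hC, zero_mul]
  · calc a * d * (C * b) * (a * d) = a * (d * (C * b * a) * d) := by noncomm_ring
      _ = 0 := by rw [sandwich_zero ((hdC.mul_right hdb).mul_right hda) hd, mul_zero]

/-- Conjugating b by the involution 1 + a C adds C. -/
lemma conj_car (h2 : ∀ x : R, x + x = 0) {a b C : R} (hab : a * b + b * a = 1)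
    (hCa : Commute C a) (hCb : Commute C b) (ha : a * a = 0) (hC : C * C = 0) :
    (1 + a * C) * b * (1 + a * C) = b + C := by
  have e1 : a * C * b + b * (a * C) = C := by
    calc a * C * b + b * (a * C) = a * (C * b) + b * a * C := by noncomm_ring
      _ = (a * b + b * a) * C := by rw [hCb.eq]; noncomm_ring
      _ = C := by rw [hab, one_mul]
  have e2 : a * C * b * (a * C) = 0 := by
    calc a * C * b * (a * C) = a * (C * (b * a) * C) := by noncomm_ring
      _ = 0 := by rw [sandwich_zero (hCb.mul_right hCa) hC, mul_zero]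
  calc (1 + a * C) * b * (1 + a * C) = b + (a * C * b + b * (a * C)) + a * C * b * (a * C) := by noncomm_ring
    _ = b + C := by rw [e1, e2, add_zero]

lemma conj_comm (h2 : ∀ x : R, x + x = 0) {X T : R} (hXT : Commute X T) (hX : X * X = 0) :
    (1 + X) * T * (1 + X) = T := by
  rw [((Commute.one_left T).add_left hXT).eq, mul_assoc, invol_one_add h2 hX, mul_one]

end ring

variable {F : Type*} [Field F] {k t : ℕ}

/-- Vectors of the tensor power. -/
abbrev Vk (F : Type*) (k t : ℕ) := (Fin t → Fin k) → F

/-- A pure tensor. -/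
def pten (xs : Fin t → Fin k → F) : Vk F k t := fun a => ∏ i, xs i (a i)

/-- A matrix acting on one factor. -/
def opFun (i : Fin t) (T : Matrix (Fin k) (Fin k) F) : Module.End F (Vk F k t) where
  toFun x := fun a => ∑ c, T (a i) c * x (update a i c)
  map_add' x y := by
    funext a
    simp only [Pi.add_apply, mul_add, Finset.sum_add_distrib]
  map_smul' s x := by
    funext a
    simp only [Pi.smul_apply, smul_eq_mul, RingHom.id_apply, Finset.mul_sum]
    exact Finset.sum_congr rfl fun c _ => mul_left_comm _ _ _

lemma opFun_pten (i : Fin t) (T : Matrix (Fin k) (Fin k) F) (xs : Fin t → Fin k → F) :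
    opFun i T (pten xs) = pten (update xs i (T *ᵥ xs i)) := by
  funext a
  show ∑ c, T (a i) c * ∏ l, xs l (update a i c l) = ∏ l, update xs i (T *ᵥ xs i) l (a l)
  rw [← Finset.mul_prod_erase Finset.univ _ (Finset.mem_univ i), update_self, mulVec, dotProduct, Finset.sum_mul]
  refine Finset.sum_congr rfl fun c _ => ?_
  rw [← Finset.mul_prod_erase Finset.univ _ (Finset.mem_univ i), update_self, mul_assoc]
  refine congrArg _ (congrArg _ (Finset.prod_congr rfl fun l hl => ?_))
  rw [update_of_ne (Finset.ne_of_mem_erase hl), update_of_ne (Finset.ne_of_mem_erase hl)]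

lemma pten_single (a : Fin t → Fin k) : pten (fun i => Pi.single (a i) (1 : F)) = Pi.single a 1 := by
  classical
  funext b
  show (∏ i, (Pi.single (a i) (1 : F) : Fin k → F) (b i)) = _
  by_cases h : b = a
  · subst h; simp
  · obtain ⟨i, hi⟩ := Function.ne_iff.1 h
    rw [Pi.single_eq_of_ne h, Finset.prod_eq_zero (Finset.mem_univ i) (Pi.single_eq_of_ne hi 1)]

lemma vec_induction {P : Vk F k t → Prop} (h0 : P 0) (hadd : ∀ x y, P x → P y → P (x + y))
    (hpure : ∀ (c : F) (xs : Fin t → Fin k → F), P (c • pten xs)) (x : Vk F k t) : P x := by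
  classical
  rw [← Finset.univ_sum_single x]
  refine Finset.sum_induction _ P hadd h0 fun a _ => ?_
  have : (Pi.single a (x a) : Vk F k t) = x a • pten (fun i => Pi.single (a i) (1 : F)) := by
    rw [pten_single, ← Pi.single_smul, smul_eq_mul, mul_one]
  rw [this]
  exact hpure _ _

lemma end_ext {f g : Module.End F (Vk F k t)} (h : ∀ xs, f (pten xs) = g (pten xs)) : f = g := by
  refine LinearMap.ext fun x => ?_
  induction x using vec_induction with
  | h0 => simp
  | hadd x y hx hy => rw [map_add, map_add, hx, hy]
  | hpure c xs => rw [map_smul, map_smul, h]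

/-- A matrix acting on one factor, as an algebra map. -/
def op (i : Fin t) : Matrix (Fin k) (Fin k) F →ₐ[F] Module.End F (Vk F k t) :=
  AlgHom.ofLinearMap
    { toFun := opFun i
      map_add' := fun S T => by
        refine LinearMap.ext fun x => funext fun a => ?_
        show (∑ c : Fin k, (S + T) (a i) c * x (update a i c)) =
          (∑ c : Fin k, S (a i) c * x (update a i c)) + ∑ c : Fin k, T (a i) c * x (update a i c)
        simp only [Matrix.add_apply, add_mul, Finset.sum_add_distrib]
      map_smul' := fun s T => by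
        refine LinearMap.ext fun x => funext fun a => ?_
        show (∑ c : Fin k, (s • T) (a i) c * x (update a i c)) = s * ∑ c : Fin k, T (a i) c * x (update a i c)
        simp only [Matrix.smul_apply, smul_eq_mul, Finset.mul_sum, mul_assoc] }
    (end_ext fun xs => by
      show opFun i 1 (pten xs) = _
      rw [opFun_pten, one_mulVec, update_eq_self]; rfl)
    (fun S T => end_ext fun xs => by
      show opFun i (S * T) (pten xs) = opFun i S (opFun i T (pten xs))
      rw [opFun_pten, opFun_pten, opFun_pten, update_self, update_idem, mulVec_mulVec])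

lemma op_pten (i : Fin t) (T : Matrix (Fin k) (Fin k) F) (xs : Fin t → Fin k → F) :
    op i T (pten xs) = pten (update xs i (T *ᵥ xs i)) := opFun_pten i T xs

lemma op_commute {i l : Fin t} (h : i ≠ l) (S T : Matrix (Fin k) (Fin k) F) :
    Commute (op i S) (op l T) := end_ext fun xs => by
  show op i S (op l T (pten xs)) = op l T (op i S (pten xs))
  rw [op_pten, op_pten, op_pten, op_pten, update_of_ne h, update_of_ne h.symm, update_comm h.symm]

lemma op_commute' (i l : Fin t) {S T : Matrix (Fin k) (Fin k) F} (h : i = l → Commute S T) :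
    Commute (op i S) (op l T) := by
  rcases eq_or_ne i l with rfl | hne
  · exact (h rfl).map (op i)
  · exact op_commute hne S T

/-- The product of factor operators in a list. -/
def listOp (L : List (Fin t × Matrix (Fin k) (Fin k) F)) : Module.End F (Vk F k t) :=
  (L.map fun p => op p.1 p.2).prod

/-- The matrix by which the product of a list acts on the factor l. -/
def listAt (L : List (Fin t × Matrix (Fin k) (Fin k) F)) (l : Fin t) : Matrix (Fin k) (Fin k) F :=
  (L.map fun p => if p.1 = l then p.2 else 1).prod

lemma listOp_pten (L : List (Fin t × Matrix (Fin k) (Fin k) F)) (xs : Fin t → Fin k → F) :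
    listOp L (pten xs) = pten (fun l => listAt L l *ᵥ xs l) := by
  induction L with
  | nil => simp [listOp, listAt]
  | cons p L ih =>
    show op p.1 p.2 (listOp L (pten xs)) = _
    rw [ih, op_pten]
    refine congrArg _ (funext fun l => ?_)
    show _ = ((if p.1 = l then p.2 else 1) * listAt L l) *ᵥ xs l
    rcases eq_or_ne l p.1 with rfl | hl
    · rw [update_self, if_pos rfl, mulVec_mulVec]
    · rw [update_of_ne hl, if_neg hl.symm, one_mul]

end Cfsg.Agent.TensorOver
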