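/-
In characteristic 2 the stabiliser in Omega of a tensor power decomposition of a symplectic form into factors of
dimension 2 or 4 lies properly inside the stabiliser of the span of the natural anticommuting square-zero pairs.
-/
import Cfsg.Agent.Lib.TensorOver.Ops
import Cfsg.Agent.Lib.TensorOver.Loc

set_option autoImplicit false
set_option linter.unusedSectionVars false

namespace Cfsg.Agent.TensorOver

open Matrix Function
open scoped commutatorElement

variable {F : Type*} [Field F] {n k t r : ℕ}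

/-! ### The transported space -/

/-- The linear isomorphism x ↦ P (x ∘ e). -/
noncomputable def Phi (e : Fin n ≃ (Fin t → Fin k)) (P : GL (Fin n) F) : Vk F k t ≃ₗ[F] (Fin n → F) :=
  (LinearEquiv.funCongrLeft F F e).trans
    { Matrix.toLin' (P : Matrix (Fin n) (Fin n) F) with
      invFun := fun v => ((P⁻¹ : GL (Fin n) F) : Matrix (Fin n) (Fin n) F) *ᵥ v
      left_inv := fun v => by
        show ((P⁻¹ : GL (Fin n) F) : Matrix (Fin n) (Fin n) F) *ᵥ ((P : Matrix (Fin n) (Fin n) F) *ᵥ v) = v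
        rw [mulVec_mulVec, P.inv_mul, one_mulVec]
      right_inv := fun v => by
        show (P : Matrix (Fin n) (Fin n) F) *ᵥ (((P⁻¹ : GL (Fin n) F) : Matrix (Fin n) (Fin n) F) *ᵥ v) = v
        rw [mulVec_mulVec, P.mul_inv, one_mulVec] }

lemma Phi_apply (e : Fin n ≃ (Fin t → Fin k)) (P : GL (Fin n) F) (x : Vk F k t) :
    Phi e P x = (P : Matrix (Fin n) (Fin n) F) *ᵥ (x ∘ e) := rfl

/-- Matrices on F^n as endomorphisms of the tensor power. -/
noncomputable def Am (e : Fin n ≃ (Fin t → Fin k)) (P : GL (Fin n) F) :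
    Matrix (Fin n) (Fin n) F ≃ₐ[F] Module.End F (Vk F k t) :=
  Matrix.toLinAlgEquiv'.trans ((Phi e P).symm.conjAlgEquiv F)

lemma Phi_Am (e : Fin n ≃ (Fin t → Fin k)) (P : GL (Fin n) F) (M : Matrix (Fin n) (Fin n) F) (x : Vk F k t) :
    Phi e P (Am e P M x) = M *ᵥ Phi e P x :=
  (Phi e P).apply_symm_apply _

lemma Am_conj_reindex (e : Fin n ≃ (Fin t → Fin k)) (P : GL (Fin n) F) (g₀ : GL (Fin t → Fin k) F)
    (x : Vk F k t) :
    Am e P ((MulAut.conj P (Geo.glReindex e.symm g₀) : GL (Fin n) F) : Matrix (Fin n) (Fin n) F) x =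
      (g₀ : Matrix (Fin t → Fin k) (Fin t → Fin k) F) *ᵥ x := by
  apply (Phi e P).injective
  rw [Phi_Am, Phi_apply, Phi_apply]
  have hr : ((Geo.glReindex e.symm g₀ : GL (Fin n) F) : Matrix (Fin n) (Fin n) F) =
      (g₀ : Matrix (Fin t → Fin k) (Fin t → Fin k) F).submatrix e e := by
    show Matrix.reindexAlgEquiv F F e.symm (g₀ : Matrix (Fin t → Fin k) (Fin t → Fin k) F) = _
    simp [Matrix.reindexAlgEquiv_apply, Matrix.reindex_apply]
  rw [MulAut.conj_apply, Units.val_mul, Units.val_mul, hr, mulVec_mulVec, mul_assoc, P.inv_mul, mul_one,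
    ← mulVec_mulVec, Matrix.submatrix_mulVec_equiv, Function.comp_assoc, Equiv.self_comp_symm, Function.comp_id]

/-! ### Elements of the wreath group on pure tensors -/

/-- The map permutes the factors of pure tensors. -/
def WrBy (φ : Module.End F (Vk F k t)) (σ : Equiv.Perm (Fin t)) (gs : Fin t → GL (Fin k) F) : Prop :=
  ∀ xs, φ (pten xs) = pten fun i => (gs i : Matrix (Fin k) (Fin k) F) *ᵥ xs (σ i)

lemma mulVec_pten_pure {g : GL (Fin t → Fin k) F} {gs : Fin t → GL (Fin k) F}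
    (hg : ∀ x y : Fin t → Fin k,
      (g : Matrix (Fin t → Fin k) (Fin t → Fin k) F) x y = ∏ i, (gs i : Matrix (Fin k) (Fin k) F) (x i) (y i))
    (xs : Fin t → Fin k → F) :
    (g : Matrix (Fin t → Fin k) (Fin t → Fin k) F) *ᵥ pten xs =
      pten fun i => (gs i : Matrix (Fin k) (Fin k) F) *ᵥ xs i := by
  funext a
  simp only [mulVec, dotProduct, pten, hg, ← Finset.prod_mul_distrib]
  rw [Fintype.prod_sum]

lemma mulVec_pten_perm {g : GL (Fin t → Fin k) F} {σ : Equiv.Perm (Fin t)}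
    (hg : ∀ x y : Fin t → Fin k,
      (g : Matrix (Fin t → Fin k) (Fin t → Fin k) F) x y = if y = x ∘ σ then 1 else 0)
    (xs : Fin t → Fin k → F) :
    (g : Matrix (Fin t → Fin k) (Fin t → Fin k) F) *ᵥ pten xs = pten fun i => xs (σ.symm i) := by
  funext a
  simp only [mulVec, dotProduct, hg, ite_mul, one_mul, zero_mul, Finset.sum_ite_eq', Finset.mem_univ, if_true, pten,
    Function.comp_apply]
  refine Fintype.prod_equiv σ _ _ fun i => ?_
  rw [Equiv.symm_apply_apply]

lemma exists_wr_standard {g : GL (Fin t → Fin k) F} (hg : g ∈ Geo.tensorWreathStandard k t F) :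
    ∃ σ gs, WrBy (Matrix.toLin' (g : Matrix (Fin t → Fin k) (Fin t → Fin k) F)) σ gs := by
  induction hg using Subgroup.closure_induction with
  | mem g hg =>
    rcases hg with ⟨gs, hgs⟩ | ⟨σ, hσ⟩
    · exact ⟨1, gs, fun xs => mulVec_pten_pure hgs xs⟩
    · refine ⟨σ.symm, fun _ => 1, fun xs => ?_⟩
      rw [Matrix.toLin'_apply, mulVec_pten_perm hσ]
      exact congrArg pten (funext fun i => by rw [Units.val_one, one_mulVec])
  | one => exact ⟨1, fun _ => 1, fun xs => by simp⟩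
  | mul g h _ _ ihg ihh =>
    obtain ⟨σ, gs, hσ⟩ := ihg
    obtain ⟨τ, hs, hτ⟩ := ihh
    refine ⟨σ.trans τ, fun i => gs i * hs (σ i), fun xs => ?_⟩
    have h1 := hτ xs
    rw [Matrix.toLin'_apply] at h1
    rw [Matrix.toLin'_apply, Units.val_mul, ← mulVec_mulVec, h1, ← Matrix.toLin'_apply, hσ]
    refine congrArg pten (funext fun i => ?_)
    rw [Units.val_mul, ← mulVec_mulVec, Equiv.trans_apply]
  | inv g _ ih =>
    obtain ⟨σ, gs, hσ⟩ := ih
    refine ⟨σ.symm, fun i => (gs (σ.symm i))⁻¹, fun xs => ?_⟩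
    set ys : Fin t → Fin k → F :=
      fun i => ((gs (σ.symm i))⁻¹ : GL (Fin k) F) *ᵥ xs (σ.symm i) with hys
    have hg : (g : Matrix (Fin t → Fin k) (Fin t → Fin k) F) *ᵥ pten ys = pten xs := by
      have := hσ ys
      rw [Matrix.toLin'_apply] at this
      rw [this]
      refine congrArg pten (funext fun i => ?_)
      simp only [hys, Equiv.symm_apply_apply, mulVec_mulVec, Units.mul_inv, one_mulVec]
    rw [Matrix.toLin'_apply, ← hg, mulVec_mulVec, Units.inv_mul, one_mulVec]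

lemma exists_wr {e : Fin n ≃ (Fin t → Fin k)} {P g : GL (Fin n) F}
    (hg : g ∈ Geo.tensorWreathSubgroup k t e P) :
    ∃ σ gs, WrBy (Am e P (g : Matrix (Fin n) (Fin n) F)) σ gs := by
  obtain ⟨g₁, hg₁, rfl⟩ := Subgroup.mem_map.1 hg
  obtain ⟨g₀, hg₀, rfl⟩ := Subgroup.mem_map.1 hg₁
  obtain ⟨σ, gs, h⟩ := exists_wr_standard hg₀
  refine ⟨σ, gs, fun xs => ?_⟩
  rw [← h xs, Matrix.toLin'_apply]
  exact Am_conj_reindex e P g₀ (pten xs)

lemma WrBy.op_comm {φ : Module.End F (Vk F k t)} {σ : Equiv.Perm (Fin t)} {gs : Fin t → GL (Fin k) F}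
    (h : WrBy φ σ gs) (i : Fin t) (T : Matrix (Fin k) (Fin k) F) :
    φ * op i T = op (σ.symm i) ((gs (σ.symm i) : Matrix (Fin k) (Fin k) F) * T *
      (((gs (σ.symm i))⁻¹ : GL (Fin k) F) : Matrix (Fin k) (Fin k) F)) * φ := by
  refine end_ext fun xs => ?_
  show φ (op i T (pten xs)) = op _ _ (φ (pten xs))
  rw [op_pten, h, h, op_pten]
  refine congrArg pten (funext fun l => ?_)
  rcases eq_or_ne l (σ.symm i) with rfl | hl
  · simp only [Equiv.apply_symm_apply, update_self, mulVec_mulVec, mul_assoc, Units.inv_mul, mul_one]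
  · rw [update_of_ne hl, update_of_ne]
    exact fun e => hl (by rw [← e, Equiv.symm_apply_apply])

/-! ### The form -/

/-- The polar form on the tensor power. -/
noncomputable def fv (Q : (Fin n → F) → F) (e : Fin n ≃ (Fin t → Fin k)) (P : GL (Fin n) F)
    (x y : Vk F k t) : F :=
  QuadraticMap.polar Q (Phi e P x) (Phi e P y)

variable {Q : (Fin n → F) → F} {e : Fin n ≃ (Fin t → Fin k)} {P : GL (Fin n) F}
  {f₁ : (Fin k → F) → (Fin k → F) → F}

lemma fv_bilinear (hQ : Geo.IsNondegenerateQuadraticForm Q) :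
    (∀ x y z, fv Q e P (x + y) z = fv Q e P x z + fv Q e P y z) ∧
    (∀ (c : F) x z, fv Q e P (c • x) z = c * fv Q e P x z) ∧
    (∀ z x y, fv Q e P z (x + y) = fv Q e P z x + fv Q e P z y) ∧
    (∀ (c : F) z x, fv Q e P z (c • x) = c * fv Q e P z x) :=
  ⟨fun x y z => by unfold fv; rw [map_add]; exact hQ.polar_bilinear.add_left _ _ _,
    fun c x z => by unfold fv; rw [map_smul]; exact hQ.polar_bilinear.smul_left _ _ _,
    fun z x y => by unfold fv; rw [map_add]; exact hQ.polar_bilinear.add_right _ _ _,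
    fun c z x => by unfold fv; rw [map_smul]; exact hQ.polar_bilinear.smul_right _ _ _⟩

lemma fv_pten (hf₁ : Geo.IsSymplecticForm f₁)
    (hT : Geo.IsTensorPowerFormStructure id (QuadraticMap.polar Q) f₁ e P) :
    ∃ c : F, c ≠ 0 ∧ ∀ xs ys, fv Q e P (pten xs) (pten ys) = c * ∏ i, f₁ (xs i) (ys i) := by
  obtain ⟨c, hc, h⟩ := hT
  refine ⟨c, hc, fun xs ys => ?_⟩
  rw [fv, Phi_apply, Phi_apply, h]
  refine congrArg _ ?_
  simp only [pten, id_eq, ← Finset.prod_mul_distrib]
  rw [Finset.prod_congr rfl fun i _ => form_expand hf₁.bilinear (xs i) (ys i), Fintype.prod_sum]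
  exact Finset.sum_congr rfl fun a _ => by rw [Fintype.prod_sum]

/-- An endomorphism that is self-adjoint for the polar form. -/
def SA (Q : (Fin n → F) → F) (e : Fin n ≃ (Fin t → Fin k)) (P : GL (Fin n) F)
    (X : Module.End F (Vk F k t)) : Prop :=
  ∀ x y, fv Q e P (X x) y = fv Q e P x (X y)

lemma SA.mul {X Y : Module.End F (Vk F k t)} (hX : SA Q e P X) (hY : SA Q e P Y) (h : Commute X Y) :
    SA Q e P (X * Y) := fun x y => by
  rw [Module.End.mul_apply, hX, hY, ← Module.End.mul_apply, ← h.eq]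

lemma sa_op (hQ : Geo.IsNondegenerateQuadraticForm Q) (hf₁ : Geo.IsSymplecticForm f₁)
    (hT : Geo.IsTensorPowerFormStructure id (QuadraticMap.polar Q) f₁ e P) {T : Matrix (Fin k) (Fin k) F}
    (hsa : ∀ u v, f₁ (T *ᵥ u) v = f₁ u (T *ᵥ v)) (i : Fin t) : SA Q e P (op i T) := by
  obtain ⟨hal, hsl, har, hsr⟩ := fv_bilinear (e := e) (P := P) hQ
  obtain ⟨c, -, hc⟩ := fv_pten hf₁ hT
  intro x y
  induction x using vec_induction with
  | h0 =>
    rw [map_zero]
    have h0 : ∀ z, fv Q e P 0 z = 0 := fun z => by rw [← zero_smul F (0 : Vk F k t), hsl, zero_mul]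
    rw [h0, h0]
  | hadd x x' hx hx' => rw [map_add, hal, hal, hx, hx']
  | hpure a xs =>
    rw [map_smul, hsl, hsl]
    congr 1
    induction y using vec_induction with
    | h0 =>
      rw [map_zero]
      have h0 : ∀ z, fv Q e P z 0 = 0 := fun z => by rw [← zero_smul F (0 : Vk F k t), hsr, zero_mul]
      rw [h0, h0]
    | hadd y y' hy hy' => rw [map_add, har, har, hy, hy']
    | hpure b ys =>
      rw [map_smul, hsr, hsr, op_pten, op_pten, hc, hc]
      congr 2
      refine Finset.prod_congr rfl fun l _ => ?_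
      rcases eq_or_ne l i with rfl | hl
      · rw [update_self, update_self, hsa]
      · rw [update_of_ne hl, update_of_ne hl]

variable [CharP F 2]

lemma end_add_self (X : Module.End F (Vk F k t)) : X + X = 0 := by
  refine LinearMap.ext fun x => funext fun a => ?_
  exact CharTwo.add_self_eq_zero _

/-- A unit from a self-inverse endomorphism. -/
noncomputable def involGL (e : Fin n ≃ (Fin t → Fin k)) (P : GL (Fin n) F) (G : Module.End F (Vk F k t))
    (hG : G * G = 1) : GL (Fin n) F where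
  val := (Am e P).symm G
  inv := (Am e P).symm G
  val_inv := by rw [← map_mul, hG, map_one]
  inv_val := by rw [← map_mul, hG, map_one]

lemma Am_involGL (G : Module.End F (Vk F k t)) (hG : G * G = 1) :
    Am e P ((involGL e P G hG : GL (Fin n) F) : Matrix (Fin n) (Fin n) F) = G :=
  (Am e P).apply_symm_apply G

lemma one_add_isometry (hQ : Geo.IsNondegenerateQuadraticForm Q) (hf₁ : Geo.IsSymplecticForm f₁)
    (hT : Geo.IsTensorPowerFormStructure id (QuadraticMap.polar Q) f₁ e P)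
    (hpure : ∀ xs : Fin t → (Fin k → F), Q ((P : Matrix (Fin n) (Fin n) F) *ᵥ (pten xs ∘ e)) = 0)
    (L : List (Fin t × Matrix (Fin k) (Fin k) F)) (hsa : SA Q e P (listOp L)) (hsq : listOp L * listOp L = 0)
    (l : Fin t) (hl : ∀ u, f₁ u (listAt L l *ᵥ u) = 0) :
    ∃ g ∈ isometryGroup F Q, Am e P ((g : GL (Fin n) F) : Matrix (Fin n) (Fin n) F) = 1 + listOp L := by
  obtain ⟨hal, hsl, har, hsr⟩ := fv_bilinear (e := e) (P := P) hQ
  obtain ⟨c, -, hc⟩ := fv_pten hf₁ hT
  set X := listOp L with hX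
  set G : Module.End F (Vk F k t) := 1 + X with hGdef
  have hG : G * G = 1 := invol_one_add end_add_self hsq
  refine ⟨involGL e P G hG, ?_, Am_involGL G hG⟩
  have hGapp : ∀ x, G x = x + X x := fun x => rfl
  have hform : ∀ x y, fv Q e P (G x) (G y) = fv Q e P x y := fun x y => by
    rw [hGapp, hGapp, hal, har, har, hsa x y, hsa x (X y), ← Module.End.mul_apply, hsq, LinearMap.zero_apply]
    have h0 : fv Q e P x 0 = 0 := by rw [← zero_smul F (0 : Vk F k t), hsr, zero_mul]
    rw [h0, add_zero, add_assoc, CharTwo.add_self_eq_zero, add_zero]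
  have hQadd : ∀ x y, Q (Phi e P (x + y)) = Q (Phi e P x) + Q (Phi e P y) + fv Q e P x y := fun x y => by
    rw [map_add, fv, QuadraticMap.polar]
    ring
  have hQ0 : Q (Phi e P 0) = 0 := by
    rw [map_zero, ← zero_smul F (0 : Fin n → F), hQ.smul]
    ring
  have key : ∀ x, Q (Phi e P (G x)) = Q (Phi e P x) := by
    intro x
    induction x using vec_induction with
    | h0 => rw [map_zero, hQ0]
    | hadd x y hx hy => rw [map_add, hQadd, hQadd, hx, hy, hform]
    | hpure a xs =>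
      have hp : ∀ ys, Q (Phi e P (pten ys)) = 0 := fun ys => by rw [Phi_apply]; exact hpure ys
      rw [map_smul, map_smul, map_smul, hQ.smul, hQ.smul, hGapp, hQadd, hX, listOp_pten, hp, hp, hc,
        Finset.prod_eq_zero (Finset.mem_univ l) (hl (xs l))]
      ring
  intro u _
  obtain ⟨x, rfl⟩ := (Phi e P).surjective u
  show Q ((Am e P).symm G *ᵥ Phi e P x) = Q (Phi e P x)
  rw [← Phi_Am, AlgEquiv.apply_symm_apply, key]

/-! ### The overgroup -/

/-- The generating endomorphisms. -/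
def gens (D : Loc f₁ r) : Set (Module.End F (Vk F k t)) :=
  insert 1 ((Set.range fun j : Fin t × Fin r => op j.1 (D.a j.2)) ∪
    Set.range fun j : Fin t × Fin r => op j.1 (D.b j.2))

/-- The elements stabilising the span of the generators under conjugation. -/
def normW [Fintype F] (e : Fin n ≃ (Fin t → Fin k)) (P : GL (Fin n) F) (D : Loc f₁ r) :
    Subgroup (GL (Fin n) F) where
  carrier := {g | ∀ T ∈ Submodule.span F (gens D), Am e P (g : Matrix (Fin n) (Fin n) F) * T *
    Am e P ((g⁻¹ : GL (Fin n) F) : Matrix (Fin n) (Fin n) F) ∈ Submodule.span F (gens D)}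
  one_mem' := fun T hT => by simpa using hT
  mul_mem' := fun {g h} hg hh T hT => by
    rw [_root_.mul_inv_rev, Units.val_mul, Units.val_mul, map_mul, map_mul]
    simpa only [mul_assoc] using hg _ (hh T hT)
  inv_mem' := fun {g} hg => by
    classical
    let S : Submonoid (GL (Fin n) F) :=
      { carrier := {g | ∀ T ∈ Submodule.span F (gens D), Am e P (g : Matrix (Fin n) (Fin n) F) * T *
          Am e P ((g⁻¹ : GL (Fin n) F) : Matrix (Fin n) (Fin n) F) ∈ Submodule.span F (gens D)}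
        one_mem' := fun T hT => by simpa using hT
        mul_mem' := fun {g h} hg hh T hT => by
          rw [_root_.mul_inv_rev, Units.val_mul, Units.val_mul, map_mul, map_mul]
          simpa only [mul_assoc] using hg _ (hh T hT) }
    have he : g⁻¹ = g ^ (orderOf g - 1) := by
      refine inv_eq_of_mul_eq_one_left ?_
      rw [← pow_succ, Nat.sub_add_cancel (orderOf_pos g), pow_orderOf_eq_one]
    show g⁻¹ ∈ S
    rw [he]
    exact pow_mem (show g ∈ S from hg) _

lemma mem_normW_of_gens [Fintype F] {D : Loc f₁ r} {g : GL (Fin n) F}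
    (h : ∀ T ∈ gens D, Am e P (g : Matrix (Fin n) (Fin n) F) * T *
      Am e P ((g⁻¹ : GL (Fin n) F) : Matrix (Fin n) (Fin n) F) ∈ Submodule.span F (gens D)) :
    g ∈ normW e P D := by
  intro T hT
  let L : Module.End F (Vk F k t) →ₗ[F] Module.End F (Vk F k t) :=
    (LinearMap.mulRight F (Am e P ((g⁻¹ : GL (Fin n) F) : Matrix (Fin n) (Fin n) F))).comp
      (LinearMap.mulLeft F (Am e P (g : Matrix (Fin n) (Fin n) F)))
  exact (Submodule.span_le (p := (Submodule.span F (gens D)).comap L)).2 h hT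

/-- The main construction. -/
theorem exists_between [Fintype F] (hQ : Geo.IsNondegenerateQuadraticForm Q) (hf₁ : Geo.IsSymplecticForm f₁)
    (hT : Geo.IsTensorPowerFormStructure id (QuadraticMap.polar Q) f₁ e P)
    (hpure : ∀ xs : Fin t → (Fin k → F), Q ((P : Matrix (Fin n) (Fin n) F) *ᵥ (pten xs ∘ e)) = 0)
    (hk : 0 < k) (D : Loc f₁ r) (p1 p2 p3 p4 : Fin t × Fin r)
    (h12f : p1.1 ≠ p2.1) (h13 : p1 ≠ p3) (h14 : p1 ≠ p4) (h23 : p2 ≠ p3) (h24 : p2 ≠ p4) (h34 : p3 ≠ p4)
    (hA : ∃ l, ∀ u, f₁ u (listAt [(p1.1, D.a p1.2), (p3.1, D.b p3.2)] l *ᵥ u) = 0)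
    (hB : ∃ l, ∀ u, f₁ u (listAt [(p3.1, D.a p3.2), (p2.1, D.a p2.2)] l *ᵥ u) = 0)
    (hC : ∃ l, ∀ u, f₁ u (listAt [(p1.1, D.a p1.2), (p2.1, D.a p2.2), (p4.1, D.b p4.2)] l *ᵥ u) = 0)
    (hE : ∃ l, ∀ u, f₁ u (listAt [(p4.1, D.a p4.2), (p3.1, D.a p3.2)] l *ᵥ u) = 0) :
    ∃ K : Subgroup (GL (Fin n) F), Geo.tensorWreathSubgroup k t e P ⊓ Geo.omegaGL Q < K ∧ K < Geo.omegaGL Q := by
  classical
  haveI : Nonempty (Fin k) := ⟨⟨0, hk⟩⟩
  have h2 : ∀ X : Module.End F (Vk F k t), X + X = 0 := end_add_self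
  let A : Fin t × Fin r → Module.End F (Vk F k t) := fun j => op j.1 (D.a j.2)
  let B : Fin t × Fin r → Module.End F (Vk F k t) := fun j => op j.1 (D.b j.2)
  have hne : ∀ {j l : Fin t × Fin r}, j ≠ l → j.1 = l.1 → j.2 ≠ l.2 := fun {j l} h e1 e2 => h (Prod.ext e1 e2)
  have hAA : ∀ j l, Commute (A j) (A l) := fun j l => by
    rcases eq_or_ne j l with rfl | h
    · exact Commute.refl _
    · exact op_commute' _ _ fun e1 => D.caa _ _ (hne h e1)
  have hAB : ∀ {j l}, j ≠ l → Commute (A j) (B l) := fun {j l} h =>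
    op_commute' _ _ fun e1 => D.cab _ _ (hne h e1)
  have hBB : ∀ j l, Commute (B j) (B l) := fun j l => by
    rcases eq_or_ne j l with rfl | h
    · exact Commute.refl _
    · exact op_commute' _ _ fun e1 => D.cbb _ _ (hne h e1)
  have hA2 : ∀ j, A j * A j = 0 := fun j => by
    show op j.1 _ * op j.1 _ = 0
    rw [← map_mul, D.aa, map_zero]
  have hab : ∀ j, A j * B j + B j * A j = 1 := fun j => by
    show op j.1 _ * op j.1 _ + op j.1 _ * op j.1 _ = 1
    rw [← map_mul, ← map_mul, ← map_add, D.ab, map_one]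
  have sA : ∀ j, SA Q e P (A j) := fun j => sa_op hQ hf₁ hT (D.saA j.2) j.1
  have sB : ∀ j, SA Q e P (B j) := fun j => sa_op hQ hf₁ hT (D.saB j.2) j.1
  have h12 : p1 ≠ p2 := fun h => h12f (congrArg Prod.fst h)
  -- four involutions
  have iso : ∀ (L : List (Fin t × Matrix (Fin k) (Fin k) F)) (X : Module.End F (Vk F k t)), listOp L = X →
      SA Q e P X → X * X = 0 → (∃ l, ∀ u, f₁ u (listAt L l *ᵥ u) = 0) →
      ∃ g ∈ isometryGroup F Q, Am e P ((g : GL (Fin n) F) : Matrix (Fin n) (Fin n) F) = 1 + X ∧ g * g = 1 := by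
    rintro L X rfl hs hq ⟨l, hl⟩
    obtain ⟨g, hg, hgA⟩ := one_add_isometry hQ hf₁ hT hpure L hs hq l hl
    refine ⟨g, hg, hgA, Units.ext ((Am e P).injective ?_)⟩
    rw [Units.val_mul, map_mul, hgA, Units.val_one, map_one, invol_one_add h2 hq]
  obtain ⟨u, huI, huA, hu2⟩ := iso _ (A p1 * B p3) (by simp [listOp, A, B])
    ((sA p1).mul (sB p3) (hAB h13)) (mul_self_zero_of_comm (hAB h13) (hA2 p1)) hA
  obtain ⟨v, hvI, hvA, hv2⟩ := iso _ (A p3 * A p2) (by simp [listOp, A])
    ((sA p3).mul (sA p2) (hAA p3 p2)) (mul_self_zero_of_comm (hAA p3 p2) (hA2 p3)) hB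
  have hC4 : Commute (A p1 * A p2) (B p4) := (hAB h14).mul_left (hAB h24)
  have hCsq : A p1 * A p2 * (A p1 * A p2) = 0 := mul_self_zero_of_comm (hAA p1 p2) (hA2 p1)
  obtain ⟨x, hxI, hxA, hx2⟩ := iso _ (A p1 * A p2 * B p4) (by simp [listOp, A, B, mul_assoc])
    (((sA p1).mul (sA p2) (hAA p1 p2)).mul (sB p4) hC4) (mul_self_zero_of_comm hC4 hCsq) hC
  obtain ⟨y, hyI, hyA, hy2⟩ := iso _ (A p4 * A p3) (by simp [listOp, A])
    ((sA p4).mul (sA p3) (hAA p4 p3)) (mul_self_zero_of_comm (hAA p4 p3) (hA2 p4)) hE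
  -- their commutators
  have comm : ∀ {s w : GL (Fin n) F}, s ∈ isometryGroup F Q → w ∈ isometryGroup F Q → s * s = 1 → w * w = 1 →
      s * w * (s * w) ∈ Geo.omegaGL Q := by
    intro s w hs hw s2 w2
    refine Subgroup.mem_map.2 ⟨⁅(⟨s, hs⟩ : isometryGroup F Q), ⟨w, hw⟩⁆, ?_, ?_⟩
    · exact Subgroup.commutator_mem_commutator (Subgroup.mem_top _) (Subgroup.mem_top _)
    · simp [commutatorElement_def, inv_eq_of_mul_eq_one_right s2, inv_eq_of_mul_eq_one_right w2, mul_assoc]
  set g := u * v * (u * v) with hgdef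
  set h := x * y * (x * y) with hhdef
  have hgΩ : g ∈ Geo.omegaGL Q := comm huI hvI hu2 hv2
  have hhΩ : h ∈ Geo.omegaGL Q := comm hxI hyI hx2 hy2
  have hgA : Am e P ((g : GL (Fin n) F) : Matrix (Fin n) (Fin n) F) = 1 + A p1 * A p2 := by
    simp only [hgdef, Units.val_mul, map_mul, huA, hvA]
    exact commutator_car h2 (hab p3) (hAA p1 p3) (hAB h13) (hAA p1 p2) (hAA p2 p3) (hAB h23) (hA2 p1) (hA2 p2)
  have hhA : Am e P ((h : GL (Fin n) F) : Matrix (Fin n) (Fin n) F) = 1 + A p1 * A p2 * A p3 := by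
    simp only [hhdef, Units.val_mul, map_mul, hxA, hyA]
    exact commutator_car h2 (hab p4) ((hAA p1 p4).mul_left (hAA p2 p4)) hC4 ((hAA p1 p3).mul_left (hAA p2 p3))
      (hAA p3 p4) (hAB h34) hCsq (hA2 p3)
  -- inverses
  have Ainv : ∀ {s : GL (Fin n) F} {X : Module.End F (Vk F k t)},
      Am e P (s : Matrix (Fin n) (Fin n) F) = 1 + X → X * X = 0 →
      Am e P ((s⁻¹ : GL (Fin n) F) : Matrix (Fin n) (Fin n) F) = 1 + X := by
    intro s X hs hX
    calc Am e P ((s⁻¹ : GL (Fin n) F) : Matrix (Fin n) (Fin n) F)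
        = Am e P ((s⁻¹ : GL (Fin n) F) : Matrix (Fin n) (Fin n) F) * ((1 + X) * (1 + X)) := by
          rw [invol_one_add h2 hX, mul_one]
      _ = _ := by rw [← mul_assoc, ← hs, ← map_mul, s.inv_mul, map_one, one_mul]
  have hZ : A p1 * A p2 * (A p1 * A p2) = 0 := hCsq
  have hmemA : ∀ j, A j ∈ Submodule.span F (gens D) := fun j =>
    Submodule.subset_span (Or.inr (Or.inl ⟨j, rfl⟩))
  have hmemB : ∀ j, B j ∈ Submodule.span F (gens D) := fun j =>
    Submodule.subset_span (Or.inr (Or.inr ⟨j, rfl⟩))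
  have hmem1 : (1 : Module.End F (Vk F k t)) ∈ Submodule.span F (gens D) := Submodule.subset_span (Or.inl rfl)
  have cj1 : (1 + A p1 * A p2) * B p1 * (1 + A p1 * A p2) = B p1 + A p2 :=
    conj_car h2 (hab p1) (hAA p2 p1) (hAB h12.symm) (hA2 p1) (hA2 p2)
  have hgN : g ∈ normW e P D := by
    refine mem_normW_of_gens fun T hT => ?_
    rw [Ainv hgA hZ, hgA]
    rcases hT with rfl | ⟨j, rfl⟩ | ⟨j, rfl⟩
    · rw [mul_one, invol_one_add h2 hZ]; exact hmem1
    · show (1 + A p1 * A p2) * A j * (1 + A p1 * A p2) ∈ _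
      rw [conj_comm h2 ((hAA p1 j).mul_left (hAA p2 j)) hZ]
      exact hmemA j
    · show (1 + A p1 * A p2) * B j * (1 + A p1 * A p2) ∈ _
      by_cases h1 : j = p1
      · subst h1
        rw [cj1]
        exact add_mem (hmemB _) (hmemA p2)
      by_cases h2' : j = p2
      · subst h2'
        rw [(hAA p1 j).eq, conj_car h2 (hab j) (hAA p1 j) (hAB h12) (hA2 j) (hA2 p1)]
        exact add_mem (hmemB _) (hmemA p1)
      rw [conj_comm h2 ((hAB (Ne.symm h1)).mul_left (hAB (Ne.symm h2'))) hZ]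
      exact hmemB j
  have hne01 : (1 : Module.End F (Vk F k t)) ≠ 0 := by
    intro hz
    have := congrArg (fun X : Module.End F (Vk F k t) => X (fun _ => 1) (fun _ => Classical.arbitrary _)) hz
    simp at this
  have hgM : g ∉ Geo.tensorWreathSubgroup k t e P := by
    intro hgm
    obtain ⟨σ, gs, hwr⟩ := exists_wr hgm
    rw [hgA] at hwr
    have he := hwr.op_comm p1.1 (D.b p1.2)
    set p := σ.symm p1.1 with hp
    set T' := (gs p : Matrix (Fin k) (Fin k) F) * D.b p1.2 * (((gs p)⁻¹ : GL (Fin k) F) : Matrix (Fin k) (Fin k) F) with hT'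
    have he' : op p T' = B p1 + A p2 := by
      rw [← cj1]
      show _ = (1 + A p1 * A p2) * op p1.1 (D.b p1.2) * (1 + A p1 * A p2)
      rw [he, mul_assoc, invol_one_add h2 hZ, mul_one]
    by_cases hpp : p = p1.1
    · have hc : Commute (B p2) (B p1 + A p2) := by
        rw [← he']
        exact op_commute (by rw [hpp]; exact h12f.symm) _ _
      refine hne01 ?_
      rw [← hab p2]
      have := hc.eq
      rw [mul_add, add_mul, (hBB p2 p1).eq, add_right_inj] at this
      rw [this, h2]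
    · have hc : Commute (A p1) (B p1 + A p2) := by
        rw [← he']
        exact op_commute (Ne.symm hpp) _ _
      refine hne01 ?_
      rw [← hab p1]
      have := hc.eq
      rw [mul_add, add_mul, (hAA p1 p2).eq, add_left_inj] at this
      rw [this, h2]
  have hhN : h ∉ normW e P D := by
    intro hh
    have hW : A p1 * A p2 * A p3 * (A p1 * A p2 * A p3) = 0 :=
      mul_self_zero_of_comm ((hAA p1 p3).mul_left (hAA p2 p3)) hCsq
    have hm := hh (B p1) (hmemB p1)
    rw [Ainv hhA hW, hhA, mul_assoc (A p1)] at hm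
    rw [conj_car h2 (hab p1) ((hAA p2 p1).mul_left (hAA p3 p1)) ((hAB h12.symm).mul_left (hAB h13.symm))
      (hA2 p1) (mul_self_zero_of_comm (hAA p2 p3) (hA2 p2))] at hm
    have hm' : A p2 * A p3 ∈ Submodule.span F (gens D) := by simpa using sub_mem hm (hmemB p1)
    let br : Fin t × Fin r → Module.End F (Vk F k t) →ₗ[F] Module.End F (Vk F k t) :=
      fun j => LinearMap.mulLeft F (B j) + LinearMap.mulRight F (B j)
    have hbr : ∀ j T, br j T = B j * T + T * B j := fun _ _ => rfl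
    have hkill : Submodule.span F (gens D) ≤ LinearMap.ker ((br p3).comp (br p2)) := by
      refine Submodule.span_le.2 ?_
      rintro T (rfl | ⟨j, rfl⟩ | ⟨j, rfl⟩) <;> rw [SetLike.mem_coe, LinearMap.mem_ker, LinearMap.comp_apply]
      · rw [hbr p2, mul_one, one_mul, h2, map_zero]
      · show br p3 (br p2 (A j)) = 0
        rcases eq_or_ne j p2 with rfl | hj
        · rw [hbr j, add_comm, hab, hbr, mul_one, one_mul, h2]
        · rw [hbr p2, (hAB hj).eq, h2, map_zero]
      · show br p3 (br p2 (B j)) = 0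
        rw [hbr p2, (hBB j p2).eq, h2, map_zero]
    have h0 : br p3 (br p2 (A p2 * A p3)) = 0 := hkill hm'
    refine hne01 ?_
    rw [← h0, hbr p2]
    have e1 : B p2 * (A p2 * A p3) + A p2 * A p3 * B p2 = A p3 := by
      rw [mul_assoc (A p2) (A p3), (hAB h23.symm).eq, ← mul_assoc, ← mul_assoc, ← add_mul, add_comm, hab, one_mul]
    rw [e1, hbr, add_comm, hab]
  refine ⟨Geo.omegaGL Q ⊓ normW e P D, ?_, ?_⟩
  · refine lt_of_le_not_ge (le_inf inf_le_right ?_) fun hle => hgM (hle ⟨hgΩ, hgN⟩).1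
    rintro m ⟨hm, hmΩ⟩
    obtain ⟨σ, gs, hwr⟩ := exists_wr hm
    have hmI : m ∈ isometryGroup F Q := by
      obtain ⟨m', -, rfl⟩ := Subgroup.mem_map.1 hmΩ
      exact m'.2
    -- each factor is a similitude
    obtain ⟨c, hc, hfp⟩ := fv_pten hf₁ hT
    have hfm : ∀ a b, fv Q e P (Am e P (m : Matrix (Fin n) (Fin n) F) a) (Am e P (m : Matrix (Fin n) (Fin n) F) b) =
        fv Q e P a b := fun a b => by
      have hq : ∀ z, Q ((m : Matrix (Fin n) (Fin n) F) *ᵥ z) = Q z := fun z => hmI z 0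
      simp only [fv, Phi_Am, QuadraticMap.polar, ← mulVec_add, hq]
    have hsim : ∀ i : Fin t, ∃ μ : F, μ ≠ 0 ∧ ∀ a b, f₁ ((gs i : Matrix (Fin k) (Fin k) F) *ᵥ a)
        ((gs i : Matrix (Fin k) (Fin k) F) *ᵥ b) = μ * f₁ a b := by
      intro i
      have hne' : ∃ a b, f₁ a b = 1 := by
        have hv : (Pi.single ⟨0, hk⟩ 1 : Fin k → F) ≠ 0 := by simp
        obtain ⟨w, hw⟩ := (hf₁.nondegenerate _ hv).2
        exact ⟨Pi.single ⟨0, hk⟩ 1, (f₁ (Pi.single ⟨0, hk⟩ 1) w)⁻¹ • w,
          by rw [hf₁.bilinear.smul_right, inv_mul_cancel₀ hw]⟩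
      obtain ⟨a1, b1, hab1⟩ := hne'
      set μ' := ∏ l ∈ Finset.univ.erase i, f₁ ((gs l : Matrix (Fin k) (Fin k) F) *ᵥ a1)
        ((gs l : Matrix (Fin k) (Fin k) F) *ᵥ b1) with hμ'
      have key : ∀ a b, f₁ ((gs i : Matrix (Fin k) (Fin k) F) *ᵥ a) ((gs i : Matrix (Fin k) (Fin k) F) *ᵥ b) * μ' =
          f₁ a b := by
        intro a b
        have h1 := hfm (pten (update (fun _ => a1) (σ i) a)) (pten (update (fun _ => b1) (σ i) b))
        rw [hwr, hwr, hfp, hfp] at h1
        have h1 := mul_left_cancel₀ hc h1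
        rw [← Finset.mul_prod_erase Finset.univ _ (Finset.mem_univ i), update_self, update_self,
          ← Finset.mul_prod_erase Finset.univ
            (fun l => f₁ (update (fun _ => a1) (σ i) a l) (update (fun _ => b1) (σ i) b l)) (Finset.mem_univ (σ i)),
          update_self, update_self] at h1
        rw [Finset.prod_congr rfl (g := fun l => f₁ ((gs l : Matrix (Fin k) (Fin k) F) *ᵥ a1)
            ((gs l : Matrix (Fin k) (Fin k) F) *ᵥ b1)) fun l hl => by
              have : σ l ≠ σ i := σ.injective.ne (Finset.ne_of_mem_erase hl)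
              rw [update_of_ne this, update_of_ne this],
          Finset.prod_eq_one (s := Finset.univ.erase (σ i)) fun l hl => by
            rw [update_of_ne (Finset.ne_of_mem_erase hl), update_of_ne (Finset.ne_of_mem_erase hl), hab1],
          mul_one] at h1
        exact h1
      have hμ0 : μ' ≠ 0 := fun hz => by
        have := key a1 b1
        rw [hz, mul_zero, hab1] at this
        exact zero_ne_one this
      exact ⟨μ'⁻¹, inv_ne_zero hμ0, fun a b => by rw [← key a b, mul_left_comm, inv_mul_cancel₀ hμ0, mul_one]⟩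
    refine mem_normW_of_gens fun T hT' => ?_
    have hinv : ∀ (i : Fin t) (U : Matrix (Fin k) (Fin k) F), U ∈ insert 1 (Set.range D.a ∪ Set.range D.b) →
        Am e P (m : Matrix (Fin n) (Fin n) F) * op i U * Am e P ((m⁻¹ : GL (Fin n) F) : Matrix (Fin n) (Fin n) F) ∈
          Submodule.span F (gens D) := by
      intro i U hU
      rw [hwr.op_comm i U, mul_assoc, ← map_mul (Am e P), m.mul_inv, map_one, mul_one]
      obtain ⟨μ, hμ, hs⟩ := hsim (σ.symm i)
      refine (Submodule.span_le (p := (Submodule.span F (gens D)).comap (op (σ.symm i)).toLinearMap)).2 ?_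
        (D.inv (gs (σ.symm i)) μ hμ hs U hU)
      rintro X (rfl | ⟨s, rfl⟩ | ⟨s, rfl⟩)
      · show op (σ.symm i) (1 : Matrix (Fin k) (Fin k) F) ∈ Submodule.span F (gens D)
        rw [map_one]; exact hmem1
      · exact hmemA (σ.symm i, s)
      · exact hmemB (σ.symm i, s)
    rcases hT' with rfl | ⟨j, rfl⟩ | ⟨j, rfl⟩
    · rw [mul_one, ← map_mul (Am e P), m.mul_inv, map_one]; exact hmem1
    · exact hinv j.1 _ (Or.inr (Or.inl ⟨j.2, rfl⟩))
    · exact hinv j.1 _ (Or.inr (Or.inr ⟨j.2, rfl⟩))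
  · exact lt_of_le_not_ge inf_le_left fun hle => hhN (hle hhΩ).2

end Cfsg.Agent.TensorOver
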